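import Groth.Agent.HilbPoly.Positive
import Groth.Agent.AssPoints.Basic
import Groth.Agent.ProjSpaceBC.OfGraded
import Groth.Agent.ProjLinear.Sections
import Groth.Agent.S1576
import Groth.Agent.ProjTwist.Tensor
import Groth.Agent.InvPow.Projective
import Mathlib.LinearAlgebra.Eigenspace.Triangularizable
import Mathlib.Algebra.Module.Submodule.Union

/-!
# A pencil of hyperplanes lowers `h⁰`

`h0_neg_one_lt`: no closed associated point and `H⁰(F) ≠ 0` give `h⁰(F(-1)) < h⁰(F)` on `P^N_k`,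
`k` algebraically closed.
-/

set_option linter.style.haveILetI false
set_option synthInstance.maxHeartbeats 400000
set_option maxHeartbeats 1600000
set_option backward.isDefEq.respectTransparency false

universe u

open CategoryTheory CategoryTheory.Limits AlgebraicGeometry Opposite TopologicalSpace

namespace Groth.Agent.PencilH0

open InvBasic ProjUniv Groth.Agent.InvPow Groth.Agent.QCohLib Groth.Agent.HilbPoly ProjGamma ProjLinear

variable {k : Type u} [Field k] {N : ℕ}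

local notation "𝒜" => CohB1.polyGrading N k

theorem aeval_isHomogeneous {σ R : Type*} [CommRing R] [Algebra k R] (c : σ → k) (z : R)
    {b : MvPolynomial σ k} {m : ℕ} (hb : b.IsHomogeneous m) :
    MvPolynomial.aeval (fun i => algebraMap k R (c i) * z) b =
      algebraMap k R (MvPolynomial.eval c b) * z ^ m := by
  classical
  rw [MvPolynomial.aeval_def, MvPolynomial.eval₂_eq, MvPolynomial.eval_eq, map_sum, Finset.sum_mul]
  refine Finset.sum_congr rfl fun e he => ?_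
  have hdeg : ∑ i ∈ e.support, e i = m := hb.degree_eq_sum_deg_support he |>.symm
  simp only [map_mul, map_prod, map_pow, mul_pow, Finset.prod_mul_distrib, Finset.prod_pow_eq_pow_sum, hdeg]
  ring

/-- At a non-closed point the forms are not all proportional to one of them modulo the point. -/
theorem exists_notMem_of_not_isClosed (x : ProjectiveSpectrum 𝒜)
    (hx : ¬ IsClosed ({x} : Set (ProjectiveSpectrum 𝒜))) {f₀ : MvPolynomial (Fin (N + 1)) k}
    (hf₀ : f₀ ∈ 𝒜 1) :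
    ∃ F ∈ 𝒜 1, ∀ c : k, F - c • f₀ ∉ x.asHomogeneousIdeal := by
  by_contra! hall
  choose c hc using fun i : Fin (N + 1) => hall _ (X_mem (k := k) (n := N) i)
  apply hx
  rw [← closure_subset_iff_isClosed]
  intro y hy
  rw [Set.mem_singleton_iff]
  have hxy : x ≤ y := (ProjectiveSpectrum.le_iff_mem_closure 𝒜 x y).mpr hy
  have hxy' : x.asHomogeneousIdeal.toIdeal ≤ y.asHomogeneousIdeal.toIdeal := hxy
  set p := x.asHomogeneousIdeal.toIdeal with hp
  set q := y.asHomogeneousIdeal.toIdeal with hq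
  have hmk : Ideal.Quotient.mkₐ k p =
      MvPolynomial.aeval (fun i => algebraMap k (_ ⧸ p) (c i) * Ideal.Quotient.mkₐ k p f₀) := by
    refine MvPolynomial.algHom_ext fun i => ?_
    rw [MvPolynomial.aeval_X, ← Algebra.smul_def, ← map_smul, Ideal.Quotient.mkₐ_eq_mk,
      Ideal.Quotient.mk_eq_mk_iff_sub_mem]
    exact hc i
  have hf₀y : f₀ ∉ q := by
    intro h
    obtain ⟨i, hi⟩ := exists_X_notMem y
    apply hi
    have h1 := q.add_mem (hxy' (hc i)) (Submodule.smul_of_tower_mem q (c i) h)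
    rwa [sub_add_cancel] at h1
  refine le_antisymm ?_ hxy
  show q ≤ p
  intro b hb
  classical
  rw [← DirectSum.sum_support_decompose 𝒜 b]
  refine p.sum_mem fun m _ => ?_
  set bm := ((DirectSum.decompose 𝒜 b) m : MvPolynomial (Fin (N + 1)) k) with hbm
  have hbh : bm.IsHomogeneous m := ((DirectSum.decompose 𝒜 b) m).2
  have hbq : bm ∈ q := y.asHomogeneousIdeal.isHomogeneous m hb
  have hcong : bm - MvPolynomial.eval c bm • f₀ ^ m ∈ p := by
    rw [← Ideal.Quotient.mk_eq_mk_iff_sub_mem, ← Ideal.Quotient.mkₐ_eq_mk k, map_smul, map_pow,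
      Algebra.smul_def]
    conv_lhs => rw [hmk]
    exact aeval_isHomogeneous c _ hbh
  by_cases hz : MvPolynomial.eval c bm = 0
  · rwa [hz, zero_smul, sub_zero] at hcong
  · exfalso
    have h1 := q.sub_mem hbq (hxy' hcong)
    rw [sub_sub_cancel] at h1
    have h2 := Submodule.smul_of_tower_mem q (MvPolynomial.eval c bm)⁻¹ h1
    rw [inv_smul_smul₀ hz] at h2
    exact hf₀y (y.isPrime.mem_of_pow_mem m h2)

/-- A pencil of linear forms avoiding finitely many non-closed points. -/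
theorem exists_pencil [Infinite k] {A : Set (ProjectiveSpectrum 𝒜)} (hA : A.Finite)
    (hcl : ∀ x ∈ A, ¬ IsClosed ({x} : Set (ProjectiveSpectrum 𝒜))) :
    ∃ f₀ f₁ : 𝒜 1, ∀ x ∈ A, f₀.1 ∉ x.asHomogeneousIdeal ∧ ∀ c : k, (f₁ - c • f₀).1 ∉ x.asHomogeneousIdeal := by
  classical
  haveI := hA.to_subtype
  let W : A → Submodule k (𝒜 1) := fun x =>
    (Submodule.restrictScalars k x.1.asHomogeneousIdeal.toIdeal).comap (𝒜 1).subtype
  have hW : ∀ x, W x ≠ ⊤ := fun x h => by
    obtain ⟨g, hg, hgx⟩ := exists_degree_one x.1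
    exact hgx (show (⟨g, hg⟩ : 𝒜 1) ∈ W x from h ▸ Submodule.mem_top)
  obtain ⟨f₀, h₀⟩ := Submodule.exists_forall_notMem_of_forall_ne_top W hW
  have hW' : ∀ x, W x ⊔ Submodule.span k {f₀} ≠ ⊤ := fun x h => by
    obtain ⟨F, hF, hFc⟩ := exists_notMem_of_not_isClosed x.1 (hcl x.1 x.2) f₀.2
    obtain ⟨w, hw, z, hz, e⟩ := Submodule.mem_sup.mp (show (⟨F, hF⟩ : 𝒜 1) ∈ W x ⊔ Submodule.span k {f₀} from h ▸ Submodule.mem_top)
    obtain ⟨c, rfl⟩ := Submodule.mem_span_singleton.mp hz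
    refine hFc c ?_
    have h1 : F - c • f₀.1 = w.1 := by
      have e' : w.1 + c • f₀.1 = F := congrArg Subtype.val e
      rw [← e', add_sub_cancel_right]
    rw [h1]
    exact hw
  obtain ⟨f₁, h₁⟩ := Submodule.exists_forall_notMem_of_forall_ne_top _ hW'
  refine ⟨f₀, f₁, fun x hx => ⟨h₀ ⟨x, hx⟩, fun c hc => h₁ ⟨x, hx⟩ ?_⟩⟩
  refine Submodule.mem_sup.mpr ⟨f₁ - c • f₀, hc, c • f₀,
    Submodule.smul_mem _ c (Submodule.mem_span_singleton_self f₀), sub_add_cancel _ _⟩

local notation "E₁" => Twist.twist 𝒜 ((1 : ℕ) : ℤ)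
/-- The constants as global functions. -/
noncomputable def gφ (k : Type u) [Field k] (N : ℕ) : k →+* Γ(CohB1.ProjSpace N k, ⊤) :=
  Coh.toGlobal (CohB1.ProjSpace N k ↘ Spec (CommRingCat.of k))

local notation "φ" => gφ k N

theorem rval_res_toGlobal (c : k) (x : ProjectiveSpectrum 𝒜) :
    rval (φ c) x (show x ∈ (⊤ : (Proj 𝒜).Opens) from trivial) =
      Localization.mk (algebraMap k _ c) (1 : x.asHomogeneousIdeal.toIdeal.primeCompl) := by
  obtain ⟨i, hi⟩ := exists_X_notMem x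
  exact ProjSpaceBC.rval_sigma 𝒜 (X_mem i) one_pos c x hi

theorem globalOf_sub_smul (f₀ f₁ : 𝒜 1) (c : k) :
    (Twist.globalOf 𝒜 (f₁ - c • f₀) : Γ(E₁, ⊤)) =
      (Twist.globalOf 𝒜 f₁ : Γ(E₁, ⊤)) - φ c • (Twist.globalOf 𝒜 f₀ : Γ(E₁, ⊤)) := by
  refine tval_ext fun x hx => ?_
  have hsub : ∀ m m' : Γ(E₁, ⊤), tval (m - m') x hx = tval m x hx - tval m' x hx := fun _ _ => rfl
  rw [hsub, tval_smul, rval_res_toGlobal]
  show Localization.mk (f₁ - c • f₀).1 _ = Localization.mk f₁.1 _ - _ * Localization.mk f₀.1 _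
  rw [Localization.mk_mul, Submodule.coe_sub, Submodule.coe_smul, Algebra.smul_def]
  refine eq_sub_of_add_eq ?_
  rw [Localization.add_mk, Localization.mk_eq_mk_iff, Localization.r_iff_exists]
  refine ⟨1, ?_⟩
  simp only [Submonoid.coe_mul, Submonoid.coe_one]
  ring

theorem res_injective_tensor {X : Scheme.{u}} {F E : X.Modules} (hE : PicF.IsInvertible E) {U : X.Opens}
    (hinj : ∀ W : X.Opens, Function.Injective (res F (inf_le_left : W ⊓ U ≤ W))) (W : X.Opens) :
    Function.Injective (res (CohB1.tensorMod F E) (inf_le_left : W ⊓ U ≤ W)) := by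
  choose V hxV μ hμ using exists_isBasis hE
  refine (injective_iff_map_eq_zero ((CohB1.tensorMod F E).presheaf.map
    (homOfLE (inf_le_left : W ⊓ U ≤ W)).op).hom).mpr fun s hs => ?_
  refine eq_zero_of_cover _ (fun x => ⟨x, hxV x⟩) s fun x => ?_
  obtain ⟨m, hm⟩ := (tmul_bij F (hμ x) (inf_le_right : W ⊓ V x ≤ V x)).2
    (res (CohB1.tensorMod F E) inf_le_left s)
  have hle : W ⊓ V x ⊓ U ≤ V x := inf_le_left.trans inf_le_right
  have h1 : res (CohB1.tensorMod F E) (inf_le_left : W ⊓ V x ⊓ U ≤ W ⊓ V x)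
      (res (CohB1.tensorMod F E) inf_le_left s) = 0 := by
    have h2 : res (CohB1.tensorMod F E) (inf_le_inf_right U inf_le_left : W ⊓ V x ⊓ U ≤ W ⊓ U)
        (res (CohB1.tensorMod F E) inf_le_left s) = 0 :=
      (congrArg (res (CohB1.tensorMod F E) _) hs).trans (res_zero _ _)
    rw [res_res] at h2 ⊢
    exact h2
  rw [← hm, HilbPoly.res_tmul, res_res] at h1
  have h3 : res F (inf_le_left : W ⊓ V x ⊓ U ≤ W ⊓ V x) m = 0 :=
    (tmul_bij F (hμ x) hle).1 (h1.trans (ProjCoh.tmul_zero_left F E _ _).symm)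
  rw [← hm, (hinj (W ⊓ V x)) (h3.trans (res_zero _ _).symm)]
  exact ProjCoh.tmul_zero_left F E _ _

theorem hasUnit_poly (m : ℤ) : ProjTwist.HasUnit (CohB1.polyGrading N k) m := by
  simpa using ProjTwist.hasUnit_of_cover (exists_degree_one (k := k) (n := N)) m

theorem exists_h0_equiv (G : (CohB1.ProjSpace N k).Modules) :
    letI : Module k Γ(G, ⊤) := Module.compHom _ φ
    Nonempty (Coh.HH (CohB1.ProjSpace N k) G 0 ≃ₗ[k] Γ(G, ⊤)) := by
  let E : Coh.HH (CohB1.ProjSpace N k) G 0 ≃+ Γ(G, ⊤) :=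
    (CohVanish.hEquiv (X := CohVanish.sp (CohB1.ProjSpace N k)) (Coh.toAb G) 0).trans (CohVanish.eu0 ⊤ _)
  letI : Module k Γ(G, ⊤) := Module.compHom _ φ
  refine ⟨E.toLinearEquiv fun r x => ?_⟩
  change CohVanish.eu0 ⊤ _ (CohVanish.hEquiv _ 0 (Sheaf.H.map (Coh.smulAb G (φ r)) 0 x)) = φ r • E x
  rw [CohVanish.hEquiv_map, CohVanish.eu0_eMap]
  exact congrArg (fun c : Γ(CohB1.ProjSpace N k, ⊤) => c • E x)
    (QCohLib.map_self (Coh.structureModule (CohB1.ProjSpace N k)) _ (φ r))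

theorem hdim_congr {G G' : (CohB1.ProjSpace N k).Modules} (e : G ≅ G') :
    hdim k (CohB1.ProjSpace N k) G 0 = hdim k (CohB1.ProjSpace N k) G' 0 := by
  letI : Module k Γ(G, ⊤) := Module.compHom _ φ
  letI : Module k Γ(G', ⊤) := Module.compHom _ φ
  obtain ⟨a⟩ := exists_h0_equiv (k := k) G
  obtain ⟨b⟩ := exists_h0_equiv (k := k) G'
  let f : Γ(G, ⊤) →ₗ[k] Γ(G', ⊤) :=
    { toFun := fun v => e.hom.app ⊤ v
      map_add' := fun x y => map_add _ x y
      map_smul' := fun r v => Scheme.Modules.Hom.app_smul _ (φ r) v }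
  have hf : Function.Bijective f := by
    haveI : IsIso (e.hom.app ⊤) := inferInstance
    exact ConcreteCategory.bijective_of_isIso (e.hom.app ⊤)
  unfold HilbPoly.hdim
  rw [((a.trans (LinearEquiv.ofBijective f hf)).trans b.symm).finrank_eq]

/-- `h⁰(F(-1)) < h⁰(F)`. -/
theorem h0_neg_one_lt [IsAlgClosed k] (F : (CohB1.ProjSpace N k).Modules) (hF : Coh.IsCoh F)
    (hass : ∀ x : ↥(CohB1.ProjSpace N k), Curv2.IsAssPoint F x → ¬ IsClosed ({x} : Set ↥(CohB1.ProjSpace N k)))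
    (M : (CohB1.ProjSpace N k).Modules) (hM : PicF.IsInvertible M) :
    Module.finrank k (Coh.HH (CohB1.ProjSpace N k) (CohB1.tensorMod (CohB1.tensorMod F M) (Twist.twistProjSpace N k (-1))) 0) ≤
      Module.finrank k (Coh.HH (CohB1.ProjSpace N k) (CohB1.tensorMod F M) 0) ∧
    (1 ≤ Module.finrank k (Coh.HH (CohB1.ProjSpace N k) (CohB1.tensorMod F M) 0) →
    Module.finrank k (Coh.HH (CohB1.ProjSpace N k) (CohB1.tensorMod (CohB1.tensorMod F M) (Twist.twistProjSpace N k (-1))) 0) + 1 ≤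
      Module.finrank k (Coh.HH (CohB1.ProjSpace N k) (CohB1.tensorMod F M) 0)) := by
  classical
  haveI : IsProper (CohB1.ProjSpace N k ↘ Spec (CommRingCat.of k)) := InvPow.isProper_toSpec N k
  haveI : CompactSpace (CohB1.ProjSpace N k) :=
    QuasiCompact.compactSpace_of_compactSpace (CohB1.ProjSpace N k ↘ Spec (CommRingCat.of k))
  haveI : IsLocallyNoetherian (CohB1.ProjSpace N k) :=
    LocallyOfFiniteType.isLocallyNoetherian (CohB1.ProjSpace N k ↘ Spec (CommRingCat.of k))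
  have hfin := S1576.result (CohB1.ProjSpace N k) F hF ⊤ isCompact_univ
  obtain ⟨f₀, f₁, hpen⟩ := exists_pencil (N := N) (k := k) hfin fun x hx => hass x hx.2
  have hcov : ∀ x : ProjectiveSpectrum 𝒜, ∃ g ∈ 𝒜 1, g ∉ x.asHomogeneousIdeal := exists_degree_one
  have hE : PicF.IsInvertible (show (CohB1.ProjSpace N k).Modules from E₁) := ProjTwist.isInvertible_twist (hasUnit_poly 1)
  have hL : PicF.IsInvertible (Twist.twistProjSpace N k (-1)) :=
    ProjTwist.isInvertible_twist (hasUnit_poly (-1))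
  set G := CohB1.tensorMod F M with hG
  have hGc : Coh.IsCoh G := HilbPoly.isCoh_tensorMod hF hM
  set F' := CohB1.tensorMod G (Twist.twistProjSpace N k (-1)) with hF'
  have hF'c : Coh.IsCoh F' := HilbPoly.isCoh_tensorMod hGc hL
  letI mF : Module k Γ(F', ⊤) := Module.compHom _ φ
  letI mG : Module k Γ(G, ⊤) := Module.compHom _ φ
  obtain ⟨eF'⟩ := exists_h0_equiv (k := k) F'
  obtain ⟨eF⟩ := exists_h0_equiv (k := k) G
  rw [eF'.finrank_eq, eF.finrank_eq]
  haveI : Module.Finite k Γ(F', ⊤) := haveI := finite_HH (k := k) hF'c 0; Module.Finite.equiv eF'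
  haveI : Module.Finite k Γ(G, ⊤) := haveI := finite_HH (k := k) hGc 0; Module.Finite.equiv eF
  obtain ⟨eAB⟩ := ProjTwist.nonempty_tensor_twist_iso 𝒜
    (show (-1 : ℤ) + ((1 : ℕ) : ℤ) = 0 by norm_num) (hasUnit_poly ((1 : ℕ) : ℤ))
  obtain ⟨e0⟩ := ProjTwist.nonempty_structureModule_iso_twist_zero 𝒜
  let eI := eAB ≪≫ e0.symm
  obtain ⟨a⟩ := nonempty_assoc G hL hE
  let e : CohB1.tensorMod F' E₁ ≅ G := a.symm ≪≫
    (ProjTwist.nonempty_tensorMod_iso (Iso.refl G) (show CohB1.tensorMod (Twist.twistProjSpace N k (-1)) E₁ ≅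
      Coh.structureModule (CohB1.ProjSpace N k) from eI)).some ≪≫ SecTwist.unitorR G
  let t : 𝒜 1 → Γ(E₁, ⊤) := fun f => Twist.globalOf 𝒜 f
  have hmono : ∀ f : 𝒜 1, (∀ x ∈ {x : ↥(CohB1.ProjSpace N k) | x ∈ (⊤ : (CohB1.ProjSpace N k).Opens) ∧
      Curv2.IsAssPoint F x}, f.1 ∉ (show ProjectiveSpectrum 𝒜 from x).asHomogeneousIdeal) →
      Function.Injective ((mulSection F' (t f) ≫ e.hom).app ⊤) := by
    intro f hf
    haveI : Mono (mulSection F' (t f)) := by
      refine mono_mulSection F' hE (t f) (res_injective_tensor hL (res_injective_tensor hM fun W => ?_))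
      refine AssPoints.restrict_injective hF.1 inf_le_left fun x hxW hw => ⟨hxW, ?_⟩
      exact (ProjSpaceBC.gen_globalOf_iff 𝒜 hcov f x).mpr
        (hf x ⟨trivial, AssPoints.isWeakAssPoint_iff_isAssPoint.mp hw⟩)
    exact (QCohLib.mono_iff_app_injective _).mp inferInstance ⊤
  let ψ : 𝒜 1 → (Γ(F', ⊤) →ₗ[k] Γ(G, ⊤)) := fun f =>
    { toFun := fun v => (mulSection F' (t f) ≫ e.hom).app ⊤ v
      map_add' := fun a b => map_add _ a b
      map_smul' := fun r v => Scheme.Modules.Hom.app_smul _ (φ r) v }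
  have hlin : ∀ (c : k) (v : Γ(F', ⊤)), ψ (f₁ - c • f₀) v = ψ f₁ v - c • ψ f₀ v := by
    intro c v
    have h1 : (mulSection F' (t (f₁ - c • f₀))).app ⊤ v =
        (mulSection F' (t f₁)).app ⊤ v - φ c • (mulSection F' (t f₀)).app ⊤ v := by
      rw [mulSection_app, mulSection_app, mulSection_app]
      have hg : ∀ s : Γ(E₁, ⊤), gres E₁ s ⊤ = s := fun s => QCohLib.map_self E₁ _ s
      rw [hg, hg, hg, show t (f₁ - c • f₀) = t f₁ + (-φ c) • t f₀ by
        rw [neg_smul, ← sub_eq_add_neg]; exact globalOf_sub_smul f₀ f₁ c]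
      have hadd : ∀ s s' : Γ(E₁, ⊤), SecTwist.tmul F' E₁ ⊤ v (s + s') =
          (SecTwist.tmul F' E₁ ⊤ v s + SecTwist.tmul F' E₁ ⊤ v s' : Γ(CohB1.tensorMod F' E₁, ⊤)) := fun s s' =>
        (congrArg _ (TensorProduct.tmul_add _ _ _)).trans
          (map_add ((SecTwist.toTensor F' E₁).app (op ⊤)).hom _ _)
      rw [hadd, ProjCoh.tmul_smul_right, ProjCoh.tmul_smul_left, neg_smul, sub_eq_add_neg]
    show e.hom.app ⊤ ((mulSection F' (t (f₁ - c • f₀))).app ⊤ v) = _
    rw [h1, map_sub, Scheme.Modules.Hom.app_smul]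
    rfl
  have inj₀ : Function.Injective (ψ f₀) := hmono f₀ fun x hx => (hpen x hx).1
  have hle := LinearMap.finrank_le_finrank_of_injective inj₀
  refine ⟨hle, fun h0 => ?_⟩
  by_contra hlt
  have heq : Module.finrank k Γ(F', ⊤) = Module.finrank k Γ(G, ⊤) := by omega
  let T : Module.End k Γ(F', ⊤) :=
    (LinearMap.linearEquivOfInjective (ψ f₀) inj₀ heq).symm.toLinearMap.comp (ψ f₁)
  haveI : Nontrivial Γ(F', ⊤) := Module.nontrivial_of_finrank_pos (R := k) (by omega)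
  obtain ⟨c, hc⟩ := Module.End.exists_eigenvalue T
  obtain ⟨v, hv⟩ := hc.exists_hasEigenvector
  have hTv : ψ f₁ v = c • ψ f₀ v := by
    have h1 := congrArg (ψ f₀) hv.apply_eq_smul
    rw [map_smul] at h1
    rw [← h1]
    exact ((LinearMap.linearEquivOfInjective (ψ f₀) inj₀ heq).apply_symm_apply (ψ f₁ v)).symm
  have hinj : Function.Injective (ψ (f₁ - c • f₀)) := hmono _ fun x hx => (hpen x hx).2 c
  refine hv.2 (hinj ?_)
  rw [map_zero, hlin, hTv, sub_self]

/-- `H⁰(F(-n)) = 0` for `n ≥ h⁰(F)`. -/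
theorem h0_twist_neg_eq_zero [IsAlgClosed k] (F : (CohB1.ProjSpace N k).Modules) (hF : Coh.IsCoh F)
    (hass : ∀ x : ↥(CohB1.ProjSpace N k), Curv2.IsAssPoint F x → ¬ IsClosed ({x} : Set ↥(CohB1.ProjSpace N k)))
    (n : ℕ) (hn : Module.finrank k (Coh.HH (CohB1.ProjSpace N k) F 0) ≤ n) :
    Subsingleton (Coh.HH (CohB1.ProjSpace N k) (CohB1.tensorMod F (Twist.twistProjSpace N k (-(n : ℤ)))) 0) := by
  haveI : IsProper (CohB1.ProjSpace N k ↘ Spec (CommRingCat.of k)) := InvPow.isProper_toSpec N k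
  haveI : IsLocallyNoetherian (CohB1.ProjSpace N k) :=
    LocallyOfFiniteType.isLocallyNoetherian (CohB1.ProjSpace N k ↘ Spec (CommRingCat.of k))
  have hI : ∀ d : ℤ, PicF.IsInvertible (Twist.twistProjSpace N k d) :=
    fun d => ProjTwist.isInvertible_twist (hasUnit_poly d)
  let h : ℕ → ℤ := fun m => hdim k (CohB1.ProjSpace N k)
    (CohB1.tensorMod F (Twist.twistProjSpace N k (-(m : ℤ)))) 0
  have h00 : h 0 = Module.finrank k (Coh.HH (CohB1.ProjSpace N k) F 0) := by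
    obtain ⟨e₀⟩ := ProjTwist.nonempty_structureModule_iso_twist_zero 𝒜
    exact hdim_congr ((ProjTwist.nonempty_tensorMod_iso (Iso.refl F)
      (show Twist.twistProjSpace N k (-((0 : ℕ) : ℤ)) ≅ Coh.structureModule (CohB1.ProjSpace N k) from e₀.symm)).some ≪≫
        SecTwist.unitorR F)
  have hstep : ∀ m : ℕ, h (m + 1) = 0 ∨ h (m + 1) + 1 ≤ h m := by
    intro m
    obtain ⟨et⟩ := ProjTwist.nonempty_tensor_twist_iso 𝒜
      (show -(m : ℤ) + -1 = -((m + 1 : ℕ) : ℤ) by push_cast; ring) (hasUnit_poly (-1))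
    obtain ⟨a⟩ := nonempty_assoc F (hI (-(m : ℤ))) (hI (-1))
    have e : CohB1.tensorMod (CohB1.tensorMod F (Twist.twistProjSpace N k (-(m : ℤ)))) (Twist.twistProjSpace N k (-1)) ≅
        CohB1.tensorMod F (Twist.twistProjSpace N k (-((m + 1 : ℕ) : ℤ))) :=
      a.symm ≪≫ (ProjTwist.nonempty_tensorMod_iso (Iso.refl F) et).some
    obtain ⟨h1, h2⟩ := h0_neg_one_lt F hF hass _ (hI (-(m : ℤ)))
    simp only [h]
    rw [← hdim_congr e, HilbPoly.hdim, HilbPoly.hdim]
    omega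
  have hle : ∀ m : ℕ, h m ≤ max 0 (h 0 - m) := by
    intro m
    induction m with
    | zero => simp
    | succ m ih => rcases hstep m with h1 | h1 <;> omega
  have h1 := hle n
  haveI := finite_HH (k := k) (HilbPoly.isCoh_tensorMod hF (hI (-(n : ℤ)))) 0
  refine (Module.finrank_zero_iff (R := k)).mp ?_
  simp only [h, HilbPoly.hdim] at h1 h00
  omega

end Groth.Agent.PencilH0
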